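import Cfsg.Agent.Lib.Helper6.SimpG

/-! # Generic lemmas on checked coset enumerations: the stabilizer of the base point is the
subgroup, and the action of a word is the trace through the table -/

set_option autoImplicit false

noncomputable section

namespace Cfsg.Agent.Lib.Helper5.HNGlue

open Cfsg.Agent.Lib.Helper6.TC Cfsg.Agent.Lib.Helper6.TCG Cfsg.Agent.Lib.Helper6.NatArr
  Cfsg.Agent.Lib.Helper6.SimpG Cfsg.Spor

variable {α : Type} [DecidableEq α] {edges : List (α × ℕ × α)} {extra : List (FreeGroup α)}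
  {S : Set (FreeGroup α)} (D : GenData edges extra S)

/-- **G0a**: an element that fixes the base point lies in the subgroup -/
theorem mem_H_of_fix {z : CoxPresented α edges extra} (hz : D.ρ z D.o = D.o) : z ∈ D.H := by
  have h := eq_stab (ρ := D.ρ) (o := D.o) (H := D.H) D.trans D.fix D.index_eq D.hTn
  rw [h]
  exact (mem_stab D.ρ D.o).2 hz

theorem mem_H_iff_fix {z : CoxPresented α edges extra} : z ∈ D.H ↔ D.ρ z D.o = D.o :=
  ⟨D.fix z, mem_H_of_fix D⟩

/-- the element of the group of a word (the product of the elements of its letters) -/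
abbrev wordG (w : List ℕ) : CoxPresented α edges extra := (w.map D.γ).prod

/-- **G0b**: the action of the element of a word on the rows is the inverse of the trace -/
theorem ρ_word_apply {w : List ℕ} (hw : ∀ x ∈ w, x < D.c.g) (a b : Fin D.T.n) :
    D.ρ (wordG D w) b = a ↔ D.T.trace a.val w = b.val := by
  have h1 : D.ρ (wordG D w) = ((w.reverse.map D.P).prod)⁻¹ := ρ_wordG D hw
  have h2 : D.T.trace a.val w = (((w.reverse.map D.P).prod) a).val :=
    trace_eq D.chk_tab w a (fun x hx => by rw [D.hTg]; exact hw x hx)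
  rw [h1, h2, Equiv.Perm.inv_eq_iff_eq]
  constructor
  · intro h
    rw [h]
  · intro h
    exact (Fin.ext h).symm

/-- the form with rows given as numbers -/
theorem ρ_word_apply' {w : List ℕ} (hw : ∀ x ∈ w, x < D.c.g) {a b : ℕ} (ha : a < D.T.n)
    (hb : b < D.T.n) : D.ρ (wordG D w) ⟨b, hb⟩ = ⟨a, ha⟩ ↔ D.T.trace a w = b :=
  ρ_word_apply D hw ⟨a, ha⟩ ⟨b, hb⟩

/-- the element of a word fixes a row if and only if the trace of the word does -/
theorem ρ_word_fix_iff {w : List ℕ} (hw : ∀ x ∈ w, x < D.c.g) {a : ℕ} (ha : a < D.T.n) :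
    D.ρ (wordG D w) ⟨a, ha⟩ = ⟨a, ha⟩ ↔ D.T.trace a w = a :=
  ρ_word_apply D hw ⟨a, ha⟩ ⟨a, ha⟩

/-- a word whose trace fixes the first row lies in the subgroup -/
theorem wordG_mem_H {w : List ℕ} (hw : ∀ x ∈ w, x < D.c.g) (h0 : D.T.trace 0 w = 0) :
    wordG D w ∈ D.H := by
  apply mem_H_of_fix
  exact (ρ_word_fix_iff D hw D.hTn).2 h0

/-- a word in the subgroup has a trace that fixes the first row -/
theorem trace_zero_of_mem_H {w : List ℕ} (hw : ∀ x ∈ w, x < D.c.g) (h : wordG D w ∈ D.H) :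
    D.T.trace 0 w = 0 :=
  (ρ_word_fix_iff D hw D.hTn).1 (D.fix _ h)

end Cfsg.Agent.Lib.Helper5.HNGlue

end
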