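import Cfsg.Agent.Lib.Helper5.HNGlue.PRel

/-! # The homomorphism from `Pt` to the presented Harada–Norton group; words that are trivial in
`Pt` are trivial there -/

set_option autoImplicit false

noncomputable section

namespace Cfsg.Agent.Lib.Helper5.HNGlue

open Cfsg.Agent.Lib.Helper6.TC Cfsg.Agent.Lib.Helper6.TCG Cfsg.Agent.Lib.Helper6.NatArr
  Cfsg.Agent.Lib.Helper6.SimpG Cfsg.Spor Cfsg.Agent.Lib.Lead.HNP

/-- the relators of the presented Harada–Norton group -/
abbrev Hrels : Set (FreeGroup HN.Gen) := plainRels HN.extra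

/-- the presented Harada–Norton group, written without a graph -/
abbrev HNt : Type := CoxPresented HN.Gen ([] : List (HN.Gen × ℕ × HN.Gen)) HN.extra

theorem hrel {r : FreeGroup HN.Gen} (hr : r ∈ HN.extra) : (PresentedGroup.mk Hrels r : HNt) = 1 :=
  PresentedGroup.one_of_mem (Or.inr hr)

/-- the images of the generators of `Pt` -/
def ιPf (a : PGen) : HNt := PresentedGroup.mk Hrels (FreeGroup.of (ιPH a))

theorem ιP_rel : ∀ r ∈ Pextra, FreeGroup.lift ιPf r = 1 := by
  intro r hr
  simp only [Pextra, List.mem_cons, List.not_mem_nil, or_false] at hr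
  rcases hr with rfl | rfl | rfl | rfl | rfl | rfl | rfl | rfl | rfl | rfl
  · have := hrel (r := HN.y ^ 6) (by simp [HN.extra])
    simp only [map_mul, map_pow, map_inv, FreeGroup.lift_apply_of] at this ⊢
    exact this
  · have := hrel (r := (HN.x ^ 2) * HN.y * (HN.x ^ 2) * (HN.y⁻¹)) (by simp [HN.extra])
    simp only [map_mul, map_pow, map_inv, FreeGroup.lift_apply_of] at this ⊢
    exact this
  · have := hrel (r := (HN.x⁻¹ * HN.y⁻¹ * HN.x * HN.y) ^ 3) (by simp [HN.extra])
    simp only [map_mul, map_pow, map_inv, FreeGroup.lift_apply_of] at this ⊢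
    exact this
  · have := hrel (r := ((HN.x⁻¹) * (HN.y ^ 2) * HN.x * (HN.y ^ 3)) ^ 3) (by simp [HN.extra])
    simp only [map_mul, map_pow, map_inv, FreeGroup.lift_apply_of] at this ⊢
    exact this
  · have := hrel (r := (HN.x * HN.y) ^ 8) (by simp [HN.extra])
    simp only [map_mul, map_pow, map_inv, FreeGroup.lift_apply_of] at this ⊢
    exact this
  · have := hrel (r := (HN.x * HN.y * HN.x * (HN.y ^ 3)) ^ 4) (by simp [HN.extra])
    simp only [map_mul, map_pow, map_inv, FreeGroup.lift_apply_of] at this ⊢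
    exact this
  · have := hrel (r := HN.z ^ 2) (by simp [HN.extra])
    simp only [map_mul, map_pow, map_inv, FreeGroup.lift_apply_of] at this ⊢
    exact this
  · have := hrel (r := (HN.z * HN.x) ^ 2) (by simp [HN.extra])
    simp only [map_mul, map_pow, map_inv, FreeGroup.lift_apply_of] at this ⊢
    exact this
  · have := hrel (r := (HN.z⁻¹ * (HN.y * HN.x * HN.y * HN.x * (HN.y ^ 2) * HN.x * (HN.y⁻¹))⁻¹ *
      HN.z * (HN.y * HN.x * HN.y * HN.x * (HN.y ^ 2) * HN.x * (HN.y⁻¹))) * ((HN.x ^ 2)⁻¹))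
      (by simp [HN.extra])
    simp only [map_mul, map_pow, map_inv, FreeGroup.lift_apply_of] at this ⊢
    exact this
  · have := hrel (r := HN.z * (((((HN.y ^ 3) * HN.x * HN.y * HN.x * HN.y)⁻¹ * HN.z *
      ((HN.y ^ 3) * HN.x * HN.y * HN.x * HN.y)) * HN.x) ^ 3)) (by simp [HN.extra])
    simp only [map_mul, map_pow, map_inv, FreeGroup.lift_apply_of] at this ⊢
    exact this

/-- the homomorphism from `Pt` to the presented Harada–Norton group -/
def ιP : Pt →* HNt := plainLift ιPf ιP_rel

/-- the image of a letter, for any coding of the letters of the big group that extends the one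
of `Pt` -/
theorem ιP_γP (gen : ℕ → HN.Gen) (sgn : ℕ → Bool) (hgen : ∀ l, l < 6 → gen l = ιPH (genP l))
    (hsgn : ∀ l, l < 6 → sgn l = sgnP l) {l : ℕ} (hl : l < 6) :
    ιP (γP l) = PresentedGroup.mk Hrels (lt gen sgn l) := by
  unfold ιP γP
  rw [plainLift_mk]
  unfold lt
  rw [hgen l hl, hsgn l hl]
  cases sgnP l
  · rw [cond_false, cond_false, FreeGroup.lift_apply_of]
    rfl
  · rw [cond_true, cond_true, map_inv, map_inv, FreeGroup.lift_apply_of]
    rfl

/-- **a word in `x, y, z` that is trivial in `Pt` is trivial in the presented Harada–Norton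
group** -/
theorem hn_word_of_pt (gen : ℕ → HN.Gen) (sgn : ℕ → Bool)
    (hgen : ∀ l, l < 6 → gen l = ιPH (genP l)) (hsgn : ∀ l, l < 6 → sgn l = sgnP l)
    {w : List ℕ} (hw : ∀ l ∈ w, l < 6) (h : (w.map γP).prod = 1) :
    (w.map (fun x => (PresentedGroup.mk (plainRels HN.extra) (lt gen sgn x)))).prod = 1 := by
  have h1 := congrArg ιP h
  rw [map_one, map_list_prod, List.map_map] at h1
  rw [← h1]
  congr 1
  apply List.map_congr_left
  intro l hl
  exact (ιP_γP gen sgn hgen hsgn (hw l hl)).symm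

end Cfsg.Agent.Lib.Helper5.HNGlue

end
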