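import Cfsg.Agent.Lib.Helper5.HNGlue.VHom
import Cfsg.Agent.Lib.Helper5.HNGlue.HNHom

/-! # The 37 derived relators of `⟨x, y, z⟩` hold in `Pt` and in the presented Harada–Norton
group, given the checked tables and Boolean checks on them -/

set_option autoImplicit false

noncomputable section

namespace Cfsg.Agent.Lib.Helper5.HNGlue

open Cfsg.Agent.Lib.Helper6.TC Cfsg.Agent.Lib.Helper6.TCG Cfsg.Agent.Lib.Helper6.NatArr
  Cfsg.Agent.Lib.Helper6.SimpG Cfsg.Spor Cfsg.Agent.Lib.Lead.HNP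

/-- the check of a word in `x, y, z` for the word problem of `Pt`: letters, the first row and the
row `b` of the table over `V`, the row `p` of the table over `⟨y, x⁻¹ y x⟩` -/
def ptChk (TPV T8 : Tab) (b p : ℕ) (w : List ℕ) : Bool :=
  (w.all fun x => Nat.blt x 6) && (Nat.beq (TPV.trace 0 w) 0 && (Nat.beq (TPV.trace b w) b &&
    Nat.beq (T8.trace p w) p))

section

variable (DQ : GenData ([] : List (QGen × ℕ × QGen)) Qextra SQ)
  (DV : GenData ([] : List (VGen × ℕ × VGen)) Vextra SV)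
  (DPV : GenData ([] : List (PGen × ℕ × PGen)) Pextra SPV)
  (D8 : GenData ([] : List (PGen × ℕ × PGen)) Pextra SP1408)

/-- **P3**: a checked word in `x, y, z` is trivial in `Pt` -/
theorem pt_word_of_chk
    (hQg : DQ.gen = genQ) (hQs : DQ.sgn = sgnQ) (hQ4 : DQ.c.g = 4) {r1 : ℕ}
    (hr1 : r1 < DQ.T.n) (hside : sideQ DQ.T r1 = true) (hV : vrelChk DQ.T r1 = true)
    (hVg : DV.gen = genV) (hVs : DV.sgn = sgnV) (hV4 : DV.c.g = 4)
    (hPg : DPV.gen = genP) (hPs : DPV.sgn = sgnP) (hP6 : DPV.c.g = 6)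
    (h8g : D8.gen = genP) (h8s : D8.sgn = sgnP) (h86 : D8.c.g = 6)
    {b p : ℕ} (hb : b < DPV.T.n) (hp : p < D8.T.n)
    (hchk : pvOK DV.T DPV.T D8.T b p = true)
    {w : List ℕ} (hc : ptChk DPV.T D8.T b p w = true) : (w.map γP).prod = 1 := by
  unfold ptChk at hc
  simp only [Bool.and_eq_true] at hc
  obtain ⟨hl, h0, h1, h2⟩ := hc
  have hw : ∀ x ∈ w, x < 6 := by
    intro x hx
    have := List.all_eq_true.1 hl x hx
    rwa [Nat.blt_eq] at this
  obtain ⟨θ, hθ⟩ := exists_θ DQ hQg hQs hQ4 hr1 hside hV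
  exact pt_word_problem DV DPV D8 hVg hVs hV4 hPg hPs hP6 h8g h8s h86 θ hθ hb hp hchk hw
    (Nat.eq_of_beq_eq_true h0) (Nat.eq_of_beq_eq_true h1) (Nat.eq_of_beq_eq_true h2)

/-- **the 37 derived relators hold in `Pt`** -/
theorem der37_Pt
    (hQg : DQ.gen = genQ) (hQs : DQ.sgn = sgnQ) (hQ4 : DQ.c.g = 4) {r1 : ℕ}
    (hr1 : r1 < DQ.T.n) (hside : sideQ DQ.T r1 = true) (hV : vrelChk DQ.T r1 = true)
    (h35 : exact35.all (exactChk DQ.T r1) = true)
    (hVg : DV.gen = genV) (hVs : DV.sgn = sgnV) (hV4 : DV.c.g = 4)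
    (hPg : DPV.gen = genP) (hPs : DPV.sgn = sgnP) (hP6 : DPV.c.g = 6)
    (h8g : D8.gen = genP) (h8s : D8.sgn = sgnP) (h86 : D8.c.g = 6)
    {b p : ℕ} (hb : b < DPV.T.n) (hp : p < D8.T.n)
    (hchk : pvOK DV.T DPV.T D8.T b p = true)
    (hlast : derivedLast.all (ptChk DPV.T D8.T b p) = true) :
    ∀ w ∈ derived35 ++ derivedLast, (w.map γP).prod = 1 := by
  intro w hw
  rcases List.mem_append.1 hw with hw | hw
  · rw [derived35_eq] at hw
    exact exact_rel' DQ hQg hQs hQ4 hr1 hside h35 w hw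
  · exact pt_word_of_chk DQ DV DPV D8 hQg hQs hQ4 hr1 hside hV hVg hVs hV4 hPg hPs hP6 h8g h8s
      h86 hb hp hchk (List.all_eq_true.1 hlast w hw)

theorem der37_lt : ∀ w ∈ derived35 ++ derivedLast, ∀ l ∈ w, l < 6 := by decide

/-- **the 37 derived relators hold in the presented Harada–Norton group**, for any coding of its
letters that extends the coding of the letters of `Pt` -/
theorem der37_HN (gen : ℕ → HN.Gen) (sgn : ℕ → Bool)
    (hgen : ∀ l, l < 6 → gen l = ιPH (genP l)) (hsgn : ∀ l, l < 6 → sgn l = sgnP l)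
    (hQg : DQ.gen = genQ) (hQs : DQ.sgn = sgnQ) (hQ4 : DQ.c.g = 4) {r1 : ℕ}
    (hr1 : r1 < DQ.T.n) (hside : sideQ DQ.T r1 = true) (hV : vrelChk DQ.T r1 = true)
    (h35 : exact35.all (exactChk DQ.T r1) = true)
    (hVg : DV.gen = genV) (hVs : DV.sgn = sgnV) (hV4 : DV.c.g = 4)
    (hPg : DPV.gen = genP) (hPs : DPV.sgn = sgnP) (hP6 : DPV.c.g = 6)
    (h8g : D8.gen = genP) (h8s : D8.sgn = sgnP) (h86 : D8.c.g = 6)
    {b p : ℕ} (hb : b < DPV.T.n) (hp : p < D8.T.n)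
    (hchk : pvOK DV.T DPV.T D8.T b p = true)
    (hlast : derivedLast.all (ptChk DPV.T D8.T b p) = true) :
    ∀ w ∈ derived35 ++ derivedLast, (w.map (fun x =>
      (PresentedGroup.mk (plainRels HN.extra) (lt gen sgn x)))).prod = 1 := by
  intro w hw
  exact hn_word_of_pt gen sgn hgen hsgn (der37_lt w hw)
    (der37_Pt DQ DV DPV D8 hQg hQs hQ4 hr1 hside hV h35 hVg hVs hV4 hPg hPs hP6 h8g h8s h86 hb hp
      hchk hlast w hw)

end

end Cfsg.Agent.Lib.Helper5.HNGlue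

end
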