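import Cfsg.Agent.Lib.Helper5.HNGlue.Der37
import Cfsg.Agent.Lib.Lead.HNP.DefsH

/-! # The 37 derived relators in the presented Harada–Norton group, for the coding `genH`,
`sgnH` of its letters -/

set_option autoImplicit false

noncomputable section

namespace Cfsg.Agent.Lib.Helper5.HNGlue

open Cfsg.Agent.Lib.Helper6.TC Cfsg.Agent.Lib.Helper6.TCG Cfsg.Agent.Lib.Helper6.NatArr
  Cfsg.Agent.Lib.Helper6.SimpG Cfsg.Spor Cfsg.Agent.Lib.Lead.HNP

theorem genH_lt_six : ∀ l, l < 6 → genH l = ιPH (genP l) := by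
  intro l hl
  interval_cases l <;> rfl

theorem sgnH_lt_six : ∀ l, l < 6 → sgnH l = sgnP l := by
  intro l hl
  interval_cases l <;> rfl

/-- the letters of the presented Harada–Norton group as elements -/
def γH (x : ℕ) : HNt := PresentedGroup.mk (plainRels HN.extra) (lt genH sgnH x)

theorem ιP_γP_H {l : ℕ} (hl : l < 6) : ιP (γP l) = γH l :=
  ιP_γP genH sgnH genH_lt_six sgnH_lt_six hl

variable (DQ : GenData ([] : List (QGen × ℕ × QGen)) Qextra SQ)
  (DV : GenData ([] : List (VGen × ℕ × VGen)) Vextra SV)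
  (DPV : GenData ([] : List (PGen × ℕ × PGen)) Pextra SPV)
  (D8 : GenData ([] : List (PGen × ℕ × PGen)) Pextra SP1408)

/-- **the 37 derived relators hold in the presented Harada–Norton group** -/
theorem der37_H
    (hQg : DQ.gen = genQ) (hQs : DQ.sgn = sgnQ) (hQ4 : DQ.c.g = 4) {r1 : ℕ}
    (hr1 : r1 < DQ.T.n) (hside : sideQ DQ.T r1 = true) (hV : vrelChk DQ.T r1 = true)
    (h35 : exact35.all (exactChk DQ.T r1) = true)
    (hVg : DV.gen = genV) (hVs : DV.sgn = sgnV) (hV4 : DV.c.g = 4)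
    (hPg : DPV.gen = genP) (hPs : DPV.sgn = sgnP) (hP6 : DPV.c.g = 6)
    (h8g : D8.gen = genP) (h8s : D8.sgn = sgnP) (h86 : D8.c.g = 6)
    {b p : ℕ} (hb : b < DPV.T.n) (hp : p < D8.T.n)
    (hchk : pvOK DV.T DPV.T D8.T b p = true)
    (hlast : derivedLast.all (ptChk DPV.T D8.T b p) = true) :
    ∀ w ∈ derived35 ++ derivedLast, (w.map (fun x =>
      (PresentedGroup.mk (plainRels HN.extra) (lt genH sgnH x)))).prod = 1 :=
  der37_HN DQ DV DPV D8 genH sgnH genH_lt_six sgnH_lt_six hQg hQs hQ4 hr1 hside hV h35 hVg hVs hV4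
    hPg hPs hP6 h8g h8s h86 hb hp hchk hlast

end Cfsg.Agent.Lib.Helper5.HNGlue

end
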