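import Cfsg.Agent.Lib.Helper5.HNGlue.Der37
import Cfsg.Agent.Lib.Lead.HNP.DefsH
import Cfsg.Agent.Lib.Helper6.SimpUB

/-! # The upper bound for the order of the presented Harada–Norton group, along the chain
`1 < V < ⟨x, y, z⟩ < HN` of checked coset enumerations -/

set_option autoImplicit false

noncomputable section

namespace Cfsg.Agent.Lib.Helper5.HNGlue

open Cfsg.Agent.Lib.Helper6.TC Cfsg.Agent.Lib.Helper6.TCG Cfsg.Agent.Lib.Helper6.NatArr
  Cfsg.Agent.Lib.Helper6.SimpG Cfsg.Agent.Lib.Helper6.Simp Cfsg.Spor Cfsg.Agent.Lib.Lead.HNP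

variable (DQ : GenData ([] : List (QGen × ℕ × QGen)) Qextra SQ)
  (DV : GenData ([] : List (VGen × ℕ × VGen)) Vextra SV)
  (DPV : GenData ([] : List (PGen × ℕ × PGen)) Pextra SPV)
  (DH : GenData ([] : List (HN.Gen × ℕ × HN.Gen)) HN.extra SH)

/-- the order of `Vt` is the number of rows of its table -/
theorem card_Vt : Finite Vt ∧ Nat.card Vt = DV.T.n :=
  finite_card_of_index_empty DV.index_eq (Nat.pos_iff_ne_zero.1 DV.hTn)

/-- the subgroup `V` of `Pt` is in the image of `Vt` -/
theorem V_le_range (θ : Vt →* Pt) (hθ : ∀ l, l < 4 → θ (γV l) = ((vexp l).map γP).prod) :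
    DPV.H ≤ θ.range := by
  unfold GenData.H
  rw [Subgroup.map_le_iff_le_comap, Subgroup.closure_le]
  intro s hs
  simp only [SPV, Set.mem_insert_iff, Set.mem_singleton_iff] at hs
  rcases hs with rfl | rfl
  · refine ⟨γV 0, ?_⟩
    rw [hθ 0 (by norm_num)]
    simp only [vexp, v1W, γP, lt, genP, sgnP, List.map_cons, List.map_nil, List.prod_cons,
      List.prod_nil, mul_one, cond_true, cond_false, map_mul, map_inv, PGen.fx, PGen.fy]
  · refine ⟨γV 2, ?_⟩
    rw [hθ 2 (by norm_num)]
    simp only [vexp, v2W, γP, lt, genP, sgnP, List.map_cons, List.map_nil, List.prod_cons,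
      List.prod_nil, mul_one, cond_true, cond_false, map_mul, map_inv, PGen.fx, PGen.fy]

/-- **the order of `Pt` is at most the product of the numbers of rows of the two tables** -/
theorem card_Pt_le
    (hQg : DQ.gen = genQ) (hQs : DQ.sgn = sgnQ) (hQ4 : DQ.c.g = 4) {r1 : ℕ}
    (hr1 : r1 < DQ.T.n) (hside : sideQ DQ.T r1 = true) (hV : vrelChk DQ.T r1 = true) :
    Finite Pt ∧ Nat.card Pt ≤ DPV.T.n * DV.T.n := by
  obtain ⟨θ, hθ⟩ := exists_θ DQ hQg hQs hQ4 hr1 hside hV
  obtain ⟨hfV, hcV⟩ := card_Vt DV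
  have hle := V_le_range DPV θ hθ
  have hfr : Finite θ.range := Finite.of_surjective θ.rangeRestrict θ.rangeRestrict_surjective
  have hcr : Nat.card θ.range ≤ DV.T.n := by
    rw [← hcV]
    exact Nat.card_le_card_of_surjective _ θ.rangeRestrict_surjective
  have hfH : Finite DPV.H := Finite.of_injective (Subgroup.inclusion hle)
    (Subgroup.inclusion_injective hle)
  have hcH : Nat.card DPV.H ≤ DV.T.n :=
    (Nat.card_le_card_of_injective (Subgroup.inclusion hle)
      (Subgroup.inclusion_injective hle)).trans hcr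
  exact finite_card_le_of_index DPV.H DPV.index_eq (Nat.pos_iff_ne_zero.1 DPV.hTn) hfH hcH

/-- the subgroup `⟨x, y, z⟩` of the presented Harada–Norton group is in the image of `Pt` -/
theorem H_le_range : DH.H ≤ ιP.range := by
  unfold GenData.H
  rw [Subgroup.map_le_iff_le_comap, Subgroup.closure_le]
  intro s hs
  simp only [SH, Set.mem_insert_iff, Set.mem_singleton_iff] at hs
  rcases hs with rfl | rfl | rfl
  · exact ⟨γP 0, ιP_γP genH sgnH (by intro l hl; interval_cases l <;> rfl)
      (by intro l hl; interval_cases l <;> rfl) (by norm_num)⟩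
  · exact ⟨γP 2, ιP_γP genH sgnH (by intro l hl; interval_cases l <;> rfl)
      (by intro l hl; interval_cases l <;> rfl) (by norm_num)⟩
  · exact ⟨γP 4, ιP_γP genH sgnH (by intro l hl; interval_cases l <;> rfl)
      (by intro l hl; interval_cases l <;> rfl) (by norm_num)⟩

/-- **the upper bound for the order of the presented Harada–Norton group** -/
theorem card_HN_le
    (hQg : DQ.gen = genQ) (hQs : DQ.sgn = sgnQ) (hQ4 : DQ.c.g = 4) {r1 : ℕ}
    (hr1 : r1 < DQ.T.n) (hside : sideQ DQ.T r1 = true) (hV : vrelChk DQ.T r1 = true) :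
    Finite HNt ∧ Nat.card HNt ≤ DH.T.n * (DPV.T.n * DV.T.n) := by
  obtain ⟨hfP, hcP⟩ := card_Pt_le DQ DV DPV hQg hQs hQ4 hr1 hside hV
  have hle := H_le_range DH
  have hfr : Finite (ιP.range) := Finite.of_surjective ιP.rangeRestrict ιP.rangeRestrict_surjective
  have hcr : Nat.card ιP.range ≤ DPV.T.n * DV.T.n :=
    (Nat.card_le_card_of_surjective _ ιP.rangeRestrict_surjective).trans hcP
  have hfH : Finite DH.H := Finite.of_injective (Subgroup.inclusion hle)
    (Subgroup.inclusion_injective hle)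
  have hcH : Nat.card DH.H ≤ DPV.T.n * DV.T.n :=
    (Nat.card_le_card_of_injective (Subgroup.inclusion hle)
      (Subgroup.inclusion_injective hle)).trans hcr
  exact finite_card_le_of_index DH.H DH.index_eq (Nat.pos_iff_ne_zero.1 DH.hTn) hfH hcH

end Cfsg.Agent.Lib.Helper5.HNGlue

end
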