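import Cfsg.Agent.Lib.Helper5.HNGlue.ZConj
import Cfsg.Agent.Lib.Lead.HNP.PtWord

/-! # The derived relators `z u z = u'` of the group `Pt` on `x, y, z` -/

set_option autoImplicit false

noncomputable section

namespace Cfsg.Agent.Lib.Helper5.HNGlue

open Cfsg.Agent.Lib.Helper6.TC Cfsg.Agent.Lib.Helper6.TCG Cfsg.Agent.Lib.Helper6.NatArr
  Cfsg.Agent.Lib.Helper6.SimpG Cfsg.Spor Cfsg.Agent.Lib.Lead.HNP

/-- the relators of `Pt` -/
abbrev Prels : Set (FreeGroup PGen) := plainRels Pextra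

/-- the element `x` of `Pt` -/
def px : Pt := PresentedGroup.mk Prels PGen.fx

/-- the element `y` of `Pt` -/
def py : Pt := PresentedGroup.mk Prels PGen.fy

/-- the element `z` of `Pt` -/
def pz : Pt := PresentedGroup.mk Prels PGen.fz

theorem prel {r : FreeGroup PGen} (hr : r ∈ Pextra) : (PresentedGroup.mk Prels r : Pt) = 1 :=
  PresentedGroup.one_of_mem (Or.inr hr)

/-- the images of the generators of `Qt` -/
def ιQf (a : QGen) : Pt := PresentedGroup.mk Prels (FreeGroup.of (ιQP a))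

theorem ιQ_rel : ∀ r ∈ Qextra, FreeGroup.lift ιQf r = 1 := by
  intro r hr
  simp only [Qextra, List.mem_cons, List.not_mem_nil, or_false] at hr
  rcases hr with rfl | rfl | rfl | rfl | rfl | rfl
  · have := prel (r := PGen.fy ^ 6) (by simp [Pextra])
    simp only [map_mul, map_pow, map_inv, FreeGroup.lift_apply_of] at this ⊢
    exact this
  · have := prel (r := (PGen.fx ^ 2) * PGen.fy * (PGen.fx ^ 2) * (PGen.fy⁻¹)) (by simp [Pextra])
    simp only [map_mul, map_pow, map_inv, FreeGroup.lift_apply_of] at this ⊢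
    exact this
  · have := prel (r := (PGen.fx⁻¹ * PGen.fy⁻¹ * PGen.fx * PGen.fy) ^ 3) (by simp [Pextra])
    simp only [map_mul, map_pow, map_inv, FreeGroup.lift_apply_of] at this ⊢
    exact this
  · have := prel (r := ((PGen.fx⁻¹) * (PGen.fy ^ 2) * PGen.fx * (PGen.fy ^ 3)) ^ 3)
      (by simp [Pextra])
    simp only [map_mul, map_pow, map_inv, FreeGroup.lift_apply_of] at this ⊢
    exact this
  · have := prel (r := (PGen.fx * PGen.fy) ^ 8) (by simp [Pextra])
    simp only [map_mul, map_pow, map_inv, FreeGroup.lift_apply_of] at this ⊢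
    exact this
  · have := prel (r := (PGen.fx * PGen.fy * PGen.fx * (PGen.fy ^ 3)) ^ 4) (by simp [Pextra])
    simp only [map_mul, map_pow, map_inv, FreeGroup.lift_apply_of] at this ⊢
    exact this

/-- the homomorphism from `Qt` to `Pt` -/
def ιQ : Qt →* Pt := plainLift ιQf ιQ_rel

theorem ιQ_qx : ιQ qx = px := by
  unfold ιQ qx
  rw [plainLift_mk, FreeGroup.lift_apply_of]
  rfl

theorem ιQ_qy : ιQ qy = py := by
  unfold ιQ qy
  rw [plainLift_mk, FreeGroup.lift_apply_of]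
  rfl

/-- the element of `Pt` of a word (the letters are `0 = x, 1 = x⁻¹, 2 = y, 3 = y⁻¹, 4 = z,
5 = z⁻¹`) -/
def evP (w : List ℕ) : Pt := (w.map γP).prod

theorem evP_nil : evP [] = 1 := rfl

theorem evP_cons (l : ℕ) (w : List ℕ) : evP (l :: w) = γP l * evP w := by
  unfold evP
  rw [List.map_cons, List.prod_cons]

theorem evP_append (u w : List ℕ) : evP (u ++ w) = evP u * evP w := by
  unfold evP
  rw [List.map_append, List.prod_append]

theorem γP_zero : γP 0 = px := rfl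

theorem γP_one : γP 1 = px⁻¹ := by
  show PresentedGroup.mk Prels (PGen.fx)⁻¹ = _
  rw [map_inv]
  rfl

theorem γP_two : γP 2 = py := rfl

theorem γP_three : γP 3 = py⁻¹ := by
  show PresentedGroup.mk Prels (PGen.fy)⁻¹ = _
  rw [map_inv]
  rfl

theorem γP_four : γP 4 = pz := rfl

theorem γP_five : γP 5 = pz⁻¹ := by
  show PresentedGroup.mk Prels (PGen.fz)⁻¹ = _
  rw [map_inv]
  rfl

theorem ιQ_γQ {l : ℕ} (hl : l < 4) : ιQ (γQ l) = γP l := by
  interval_cases l
  · rw [γQ_zero, γP_zero, ιQ_qx]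
  · rw [γQ_one, γP_one, map_inv, ιQ_qx]
  · rw [γQ_two, γP_two, ιQ_qy]
  · rw [γQ_three, γP_three, map_inv, ιQ_qy]

theorem ιQ_evQ : ∀ (w : List ℕ), (∀ l ∈ w, l < 4) → ιQ (evQ w) = evP w
  | [], _ => by rw [evQ_nil, evP_nil, map_one]
  | l :: w, hw => by
    rw [evQ_cons, evP_cons, map_mul, ιQ_γQ (hw l (List.mem_cons_self ..)),
      ιQ_evQ w (fun k hk => hw k (List.mem_cons_of_mem _ hk))]

/-! ### the relations of `z` -/

theorem pz_mul_self : pz * pz = 1 := by
  have := prel (r := PGen.fz ^ 2) (by simp [Pextra])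
  rw [map_pow, pow_two] at this
  exact this

theorem pz_inv : pz⁻¹ = pz := inv_eq_of_mul_eq_one_left pz_mul_self

theorem pz_px_pz : pz * px * pz = px⁻¹ := by
  have := prel (r := (PGen.fz * PGen.fx) ^ 2) (by simp [Pextra])
  rw [map_pow, map_mul, pow_two] at this
  apply eq_inv_of_mul_eq_one_left
  rw [← this]
  show pz * px * pz * px = pz * px * (pz * px)
  group

/-- the element `w` of `Pt` -/
def pw : Pt := ιQ qw

theorem pw_eq : pw = py * px * py * px * py ^ 2 * px * py⁻¹ := by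
  unfold pw qw
  rw [ιQ_evQ wW (by unfold wW; decide)]
  unfold wW evP
  simp only [List.map_cons, List.map_nil, List.prod_cons, List.prod_nil, γP_zero, γP_two,
    γP_three, mul_one, pow_two, mul_assoc]

theorem pz_pw_pz : pz * pw * pz = pw * px⁻¹ * px⁻¹ := by
  have h9 := prel (r := (PGen.fz⁻¹ * (PGen.fy * PGen.fx * PGen.fy * PGen.fx * (PGen.fy ^ 2) *
    PGen.fx * (PGen.fy⁻¹))⁻¹ * PGen.fz * (PGen.fy * PGen.fx * PGen.fy * PGen.fx * (PGen.fy ^ 2) *
    PGen.fx * (PGen.fy⁻¹))) * ((PGen.fx ^ 2)⁻¹)) (by simp [Pextra])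
  simp only [map_mul, map_pow, map_inv] at h9
  have h9' : pz⁻¹ * pw⁻¹ * pz * pw * (px ^ 2)⁻¹ = 1 := by
    rw [pw_eq]
    exact h9
  rw [pz_inv] at h9'
  have h1 : pz * pw⁻¹ * pz = px ^ 2 * pw⁻¹ := by
    calc pz * pw⁻¹ * pz = (pz * pw⁻¹ * pz * pw * (px ^ 2)⁻¹) * (px ^ 2 * pw⁻¹) := by group
      _ = px ^ 2 * pw⁻¹ := by rw [h9', one_mul]
  have h2 : pz * pw * pz = (pz * pw⁻¹ * pz)⁻¹ := by
    rw [mul_inv_rev, mul_inv_rev, inv_inv, pz_inv, mul_assoc]
  rw [h2, h1]
  group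

/-! ### the derived relators -/

theorem wordChkQ_lt {T : Tab} {r1 : ℕ} {w : List ℕ} (h : wordChkQ T r1 w = true) :
    ∀ l ∈ w, l < 4 := by
  unfold wordChkQ at h
  rw [Bool.and_eq_true] at h
  intro l hl
  have := List.all_eq_true.1 h.1 l hl
  rwa [Nat.blt_eq] at this

/-- the check of a derived relator `z u z = u'`, given with a word `d` in `x, w` -/
def exactChk (T : Tab) (r1 : ℕ) (e : List ℕ × List ℕ × List ℕ × ℕ) : Bool :=
  wordChkQ T r1 (invW e.1 ++ expandD e.2.2.1) &&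
    (wordChkQ T r1 (invW (expandD (conjD e.2.2.1)) ++ e.2.1) &&
      (Nat.beq e.2.2.2 4 || Nat.beq e.2.2.2 5))

variable (D : GenData ([] : List (QGen × ℕ × QGen)) Qextra SQ)

/-- **Z2**: a checked derived relator holds in `Pt` -/
theorem exact_rel (hgen : D.gen = genQ) (hsgn : D.sgn = sgnQ) (hg : D.c.g = 4) {r1 : ℕ}
    (hr1 : r1 < D.T.n) (hside : sideQ D.T r1 = true) {e : List ℕ × List ℕ × List ℕ × ℕ}
    (hc : exactChk D.T r1 e = true) : evP (derivedOf e) = 1 := by
  obtain ⟨u, u', d, z2⟩ := e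
  unfold exactChk at hc
  simp only [Bool.and_eq_true, Bool.or_eq_true] at hc
  obtain ⟨hc1, hc2, hz2⟩ := hc
  -- the letters
  have hl1 := wordChkQ_lt hc1
  have hl2 := wordChkQ_lt hc2
  have hu : ∀ l ∈ u, l < 4 :=
    invW_lt.1 fun l hl => hl1 l (List.mem_append_left _ hl)
  have hd : ∀ l ∈ expandD d, l < 4 := fun l hl => hl1 l (List.mem_append_right _ hl)
  have hd' : ∀ l ∈ expandD (conjD d), l < 4 :=
    invW_lt.1 fun l hl => hl2 l (List.mem_append_left _ hl)
  have hu' : ∀ l ∈ u', l < 4 := fun l hl => hl2 l (List.mem_append_right _ hl)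
  -- the two identities in `Qt`
  have e1 := evQ_eq_one_of_chk D hgen hsgn hg hr1 hside hc1
  have e2 := evQ_eq_one_of_chk D hgen hsgn hg hr1 hside hc2
  rw [evQ_append, evQ_invW u hu, evQ_expandD] at e1
  rw [evQ_append, evQ_invW _ hd', evQ_expandD] at e2
  have e1' : evQ u = evD qx qw d := inv_mul_eq_one.1 e1
  have e2' : evQ u' = evD qx qw (conjD d) := (inv_mul_eq_one.1 e2).symm
  -- in `Pt`
  have h1 : evP u = evD px pw d := by
    rw [← ιQ_evQ u hu, e1', map_evD, ιQ_qx]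
    rfl
  have h2 : evP u' = evD px pw (conjD d) := by
    rw [← ιQ_evQ u' hu', e2', map_evD, ιQ_qx]
    rfl
  have h3 : pz * evP u * pz = evP u' := by
    rw [h1, h2]
    exact conj_evD pz_mul_self pz_px_pz pz_pw_pz d
  have h4 : evP (invW u') = (evP u')⁻¹ := by
    rw [← ιQ_evQ _ (invW_lt.2 hu'), evQ_invW u' hu', map_inv, ιQ_evQ u' hu']
  have h5 : γP z2 = pz := by
    rcases hz2 with h | h
    · rw [Nat.eq_of_beq_eq_true h, γP_four]
    · rw [Nat.eq_of_beq_eq_true h, γP_five, pz_inv]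
  show evP (4 :: u ++ z2 :: invW u') = 1
  rw [List.cons_append, evP_cons, evP_append, evP_cons, h4, h5, γP_four, ← h3]
  group

/-- the form for the weakening of the certificate -/
theorem exact_rel' (hgen : D.gen = genQ) (hsgn : D.sgn = sgnQ) (hg : D.c.g = 4) {r1 : ℕ}
    (hr1 : r1 < D.T.n) (hside : sideQ D.T r1 = true) {es : List (List ℕ × List ℕ × List ℕ × ℕ)}
    (hc : es.all (exactChk D.T r1) = true) :
    ∀ w ∈ es.map derivedOf, (w.map (fun x =>
      (PresentedGroup.mk (plainRels Pextra) (lt genP sgnP x)))).prod = 1 := by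
  intro w hw
  rw [List.mem_map] at hw
  obtain ⟨e, he, rfl⟩ := hw
  exact exact_rel D hgen hsgn hg hr1 hside (List.all_eq_true.1 hc e he)

end Cfsg.Agent.Lib.Helper5.HNGlue

end
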