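import Cfsg.Agent.Lib.Helper5.HNGlue.G0
import Cfsg.Agent.Lib.Lead.HNP.Weaken
import Cfsg.Agent.Lib.Lead.HNP.Defs

/-! # The group `Qt` on `x, y`: the fourth power of `x`, the subgroup `⟨x², y⟩`, the
abelianisation -/

set_option autoImplicit false

noncomputable section

namespace Cfsg.Agent.Lib.Helper5.HNGlue

open Cfsg.Agent.Lib.Helper6.TC Cfsg.Agent.Lib.Helper6.TCG Cfsg.Agent.Lib.Helper6.NatArr
  Cfsg.Agent.Lib.Helper6.SimpG Cfsg.Spor Cfsg.Agent.Lib.Lead.HNP

/-! ### two lemmas on groups -/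

/-- **Q1**, in any group: if `y` inverts `x²` and `(x⁻¹ y² x y³)³ = 1`, then `x⁴ = 1` -/
theorem pow_four_of_rels {G : Type*} [Group G] (x y : G) (h2 : x ^ 2 * y * x ^ 2 * y⁻¹ = 1)
    (h4 : (x⁻¹ * y ^ 2 * x * y ^ 3) ^ 3 = 1) : x ^ 4 = 1 := by
  set s := x ^ 2 with hs
  have h2' : s * y * s = y := by
    have := congrArg (· * y) h2
    simpa [mul_assoc] using this
  have hy : SemiconjBy y s s⁻¹ := by
    unfold SemiconjBy
    calc y * s = s⁻¹ * (s * y * s) := by group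
      _ = s⁻¹ * y := by rw [h2']
  have hy' : SemiconjBy y s⁻¹ s := by
    have := hy.inv_right
    rwa [inv_inv] at this
  have hx : SemiconjBy x s s := (Commute.refl x).pow_right 2
  have hxi : SemiconjBy x⁻¹ s s := (Commute.refl x).pow_right 2 |>.inv_left
  have hx' : SemiconjBy x s⁻¹ s⁻¹ := hx.inv_right
  have hxi' : SemiconjBy x⁻¹ s⁻¹ s⁻¹ := hxi.inv_right
  have hy2 : SemiconjBy (y ^ 2) s s := by
    rw [pow_two]
    exact hy'.mul_left hy
  have hy2' : SemiconjBy (y ^ 2) s⁻¹ s⁻¹ := hy2.inv_right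
  have hy3 : SemiconjBy (y ^ 3) s s⁻¹ := by
    have e : y ^ 3 = y ^ 2 * y := pow_succ y 2
    rw [e]
    exact hy2'.mul_left hy
  have hy3' : SemiconjBy (y ^ 3) s⁻¹ s := by
    have := hy3.inv_right
    rwa [inv_inv] at this
  have hu : SemiconjBy (x⁻¹ * y ^ 2 * x * y ^ 3) s s⁻¹ :=
    ((hxi'.mul_left hy2').mul_left hx').mul_left hy3
  have hu' : SemiconjBy (x⁻¹ * y ^ 2 * x * y ^ 3) s⁻¹ s := by
    have := hu.inv_right
    rwa [inv_inv] at this
  have hu3 : SemiconjBy ((x⁻¹ * y ^ 2 * x * y ^ 3) ^ 3) s s⁻¹ := by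
    have e : (x⁻¹ * y ^ 2 * x * y ^ 3) ^ 3 =
        (x⁻¹ * y ^ 2 * x * y ^ 3) * ((x⁻¹ * y ^ 2 * x * y ^ 3) * (x⁻¹ * y ^ 2 * x * y ^ 3)) := by
      rw [pow_succ, pow_two, mul_assoc]
    rw [e]
    exact hu.mul_left (hu'.mul_left hu)
  rw [h4] at hu3
  have h5 : s = s⁻¹ := by
    have := hu3.eq
    rwa [one_mul, mul_one] at this
  have h6 : s * s = 1 := by
    nth_rewrite 1 [h5]
    exact inv_mul_cancel s
  calc x ^ 4 = x ^ 2 * x ^ 2 := by rw [← pow_add]
    _ = 1 := h6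

/-- **Q2**, in any group: the subgroup generated by two commuting elements of orders dividing
two and six -/
theorem mem_closure_pair {G : Type*} [Group G] {a b : G} (hab : Commute a b) (ha : a ^ 2 = 1)
    (hb : b ^ 6 = 1) {g : G} (hg : g ∈ Subgroup.closure ({a, b} : Set G)) :
    ∃ i j : ℕ, i < 2 ∧ j < 6 ∧ g = a ^ i * b ^ j := by
  have key : ∃ i j : ℕ, g = a ^ i * b ^ j := by
    induction hg using Subgroup.closure_induction with
    | mem g hg =>
      rcases hg with rfl | rfl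
      · exact ⟨1, 0, by simp⟩
      · exact ⟨0, 1, by simp⟩
    | one => exact ⟨0, 0, by simp⟩
    | mul g h _ _ ihg ihh =>
      obtain ⟨i, j, rfl⟩ := ihg
      obtain ⟨k, l, rfl⟩ := ihh
      refine ⟨i + k, j + l, ?_⟩
      have hc : Commute (b ^ j) (a ^ k) := (hab.pow_pow k j).symm
      calc a ^ i * b ^ j * (a ^ k * b ^ l) = a ^ i * (b ^ j * a ^ k) * b ^ l := by group
        _ = a ^ i * (a ^ k * b ^ j) * b ^ l := by rw [hc.eq]
        _ = a ^ (i + k) * b ^ (j + l) := by rw [pow_add, pow_add]; group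
    | inv g _ ihg =>
      obtain ⟨i, j, rfl⟩ := ihg
      refine ⟨i, 5 * j, ?_⟩
      have hc : Commute (a ^ i) (b ^ j) := hab.pow_pow i j
      have h1 : (a ^ i)⁻¹ = a ^ i := by
        apply inv_eq_of_mul_eq_one_left
        rw [← pow_add, ← two_mul, pow_mul, ha, one_pow]
      have h2 : (b ^ j)⁻¹ = b ^ (5 * j) := by
        apply inv_eq_of_mul_eq_one_left
        rw [← pow_add]
        have : 5 * j + j = 6 * j := by ring
        rw [this, pow_mul, hb, one_pow]
      rw [hc.eq, mul_inv_rev, h1, h2]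
  obtain ⟨i, j, rfl⟩ := key
  refine ⟨i % 2, j % 6, Nat.mod_lt _ (by norm_num), Nat.mod_lt _ (by norm_num), ?_⟩
  rw [← pow_eq_pow_mod i ha, ← pow_eq_pow_mod j hb]

/-! ### the group `Qt` -/

/-- the relators of `Qt` -/
abbrev Qrels : Set (FreeGroup QGen) := plainRels Qextra

/-- the element `x` of `Qt` -/
def qx : Qt := PresentedGroup.mk Qrels QGen.fx

/-- the element `y` of `Qt` -/
def qy : Qt := PresentedGroup.mk Qrels QGen.fy

theorem qrel {r : FreeGroup QGen} (hr : r ∈ Qextra) : (PresentedGroup.mk Qrels r : Qt) = 1 :=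
  PresentedGroup.one_of_mem (Or.inr hr)

theorem qrel1 : qy ^ 6 = 1 := by
  have := qrel (r := QGen.fy ^ 6) (by simp [Qextra])
  rwa [map_pow] at this

theorem qrel2 : qx ^ 2 * qy * qx ^ 2 * qy⁻¹ = 1 := by
  have := qrel (r := (QGen.fx ^ 2) * QGen.fy * (QGen.fx ^ 2) * (QGen.fy⁻¹)) (by simp [Qextra])
  simp only [map_mul, map_pow, map_inv] at this
  exact this

theorem qrel4 : (qx⁻¹ * qy ^ 2 * qx * qy ^ 3) ^ 3 = 1 := by
  have := qrel (r := ((QGen.fx⁻¹) * (QGen.fy ^ 2) * QGen.fx * (QGen.fy ^ 3)) ^ 3)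
    (by simp [Qextra])
  simp only [map_mul, map_pow, map_inv] at this
  exact this

/-- **Q1** -/
theorem qx_pow_four : qx ^ 4 = 1 := pow_four_of_rels qx qy qrel2 qrel4

theorem qxx_sq : (qx * qx) ^ 2 = 1 := by
  rw [← pow_two, ← pow_mul]
  exact qx_pow_four

theorem qxx_comm : Commute (qx * qx) qy := by
  have h2 := qrel2
  have h4 := qx_pow_four
  rw [← pow_two]
  -- y x² y⁻¹ = x⁻² = x²
  have e1 : qx ^ 2 * qy * qx ^ 2 = qy := by
    have := congrArg (· * qy) h2
    simpa [mul_assoc] using this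
  have e2 : (qx ^ 2)⁻¹ = qx ^ 2 := by
    apply inv_eq_of_mul_eq_one_left
    rw [← pow_add]
    exact h4
  unfold Commute SemiconjBy
  calc qx ^ 2 * qy = (qx ^ 2 * qy * qx ^ 2) * (qx ^ 2)⁻¹ := by group
    _ = qy * qx ^ 2 := by rw [e1, e2]

/-- **Q3**: the abelianisation, onto the cyclic group of order four -/
def abQ : Qt →* Multiplicative (ZMod 4) :=
  plainLift (fun a => match a with
    | .x => Multiplicative.ofAdd (1 : ZMod 4)
    | .y => 1) (by
    intro r hr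
    simp only [Qextra, List.mem_cons, List.not_mem_nil, or_false] at hr
    rcases hr with rfl | rfl | rfl | rfl | rfl | rfl <;>
      simp only [map_mul, map_pow, map_inv, FreeGroup.lift_apply_of] <;> decide)

theorem abQ_qx : abQ qx = Multiplicative.ofAdd (1 : ZMod 4) := by
  unfold abQ qx
  rw [plainLift_mk, FreeGroup.lift_apply_of]

theorem abQ_qy : abQ qy = 1 := by
  unfold abQ qy
  rw [plainLift_mk, FreeGroup.lift_apply_of]

end Cfsg.Agent.Lib.Helper5.HNGlue

end
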