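import Cfsg.Agent.Lib.Helper5.HNGlue.QRel

/-! # The word problem of the group `Qt`, from a coset table over `⟨x², y⟩` -/

set_option autoImplicit false

noncomputable section

namespace Cfsg.Agent.Lib.Helper5.HNGlue

open Cfsg.Agent.Lib.Helper6.TC Cfsg.Agent.Lib.Helper6.TCG Cfsg.Agent.Lib.Helper6.NatArr
  Cfsg.Agent.Lib.Helper6.SimpG Cfsg.Spor Cfsg.Agent.Lib.Lead.HNP

/-- the element of `Qt` of a letter: `0 = x, 1 = x⁻¹, 2 = y, 3 = y⁻¹` -/
def γQ (l : ℕ) : Qt := PresentedGroup.mk Qrels (lt genQ sgnQ l)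

theorem γQ_zero : γQ 0 = qx := rfl

theorem γQ_one : γQ 1 = qx⁻¹ := by
  show PresentedGroup.mk Qrels (QGen.fx)⁻¹ = _
  rw [map_inv]
  rfl

theorem γQ_two : γQ 2 = qy := rfl

theorem γQ_three : γQ 3 = qy⁻¹ := by
  show PresentedGroup.mk Qrels (QGen.fy)⁻¹ = _
  rw [map_inv]
  rfl

/-- the element of `Qt` of a word -/
def evQ (w : List ℕ) : Qt := (w.map γQ).prod

theorem evQ_nil : evQ [] = 1 := rfl

theorem evQ_cons (l : ℕ) (w : List ℕ) : evQ (l :: w) = γQ l * evQ w := by
  unfold evQ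
  rw [List.map_cons, List.prod_cons]

theorem evQ_append (u w : List ℕ) : evQ (u ++ w) = evQ u * evQ w := by
  unfold evQ
  rw [List.map_append, List.prod_append]

/-- the exponent of `x` in a letter, modulo four -/
def eN : ℕ → ℕ
  | 0 => 1
  | 1 => 3
  | _ => 0

/-- the exponent sum of `x` in a word, modulo four -/
def expX (w : List ℕ) : ℕ := (w.map eN).sum

theorem abQ_γQ {l : ℕ} (hl : l < 4) :
    abQ (γQ l) = Multiplicative.ofAdd ((eN l : ℕ) : ZMod 4) := by
  interval_cases l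
  · rw [γQ_zero, abQ_qx]
    rfl
  · rw [γQ_one, map_inv, abQ_qx]
    decide
  · rw [γQ_two, abQ_qy]
    rfl
  · rw [γQ_three, map_inv, abQ_qy]
    rfl

theorem abQ_evQ : ∀ (w : List ℕ), (∀ l ∈ w, l < 4) →
    abQ (evQ w) = Multiplicative.ofAdd ((expX w : ℕ) : ZMod 4)
  | [], _ => by
    rw [evQ_nil, map_one]
    rfl
  | l :: w, hw => by
    rw [evQ_cons, map_mul, abQ_γQ (hw l (List.mem_cons_self ..)),
      abQ_evQ w (fun k hk => hw k (List.mem_cons_of_mem _ hk))]
    unfold expX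
    rw [List.map_cons, List.sum_cons, Nat.cast_add, ofAdd_add]

/-- the word of `x^(2i) y^j` -/
def qword (i j : ℕ) : List ℕ := (List.replicate i [0, 0]).flatten ++ List.replicate j 2

theorem qword_lt (i j : ℕ) : ∀ l ∈ qword i j, l < 4 := by
  intro l hl
  unfold qword at hl
  rcases List.mem_append.1 hl with hl | hl
  · rw [List.mem_flatten] at hl
    obtain ⟨u, hu, hlu⟩ := hl
    rw [List.eq_of_mem_replicate hu] at hlu
    simp only [List.mem_cons, List.not_mem_nil, or_false, or_self] at hlu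
    omega
  · rw [List.eq_of_mem_replicate hl]
    norm_num

theorem evQ_qword (i j : ℕ) : evQ (qword i j) = (qx * qx) ^ i * qy ^ j := by
  unfold qword
  rw [evQ_append]
  congr 1
  · induction i with
    | zero => simp [evQ_nil]
    | succ i ih =>
      rw [List.replicate_succ, List.flatten_cons, evQ_append, ih, pow_succ']
      congr 1
  · induction j with
    | zero => simp [evQ_nil]
    | succ j ih =>
      rw [List.replicate_succ, evQ_cons, ih, γQ_two, pow_succ']

/-- the side condition on the second base point: none of the ten elements `x^(2i) y^j` with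
`j ≠ 0` fixes it -/
def sideQ (T : Tab) (r1 : ℕ) : Bool :=
  allBelow 2 fun i => allBelow 6 fun j => Nat.beq j 0 || !Nat.beq (T.trace r1 (qword i j)) r1

/-- the check of a word: letters, two traces, exponent sum -/
def wordChkQ (T : Tab) (r1 : ℕ) (w : List ℕ) : Bool :=
  (w.all fun l => Nat.blt l 4) && (Nat.beq (T.trace 0 w) 0 && (Nat.beq (T.trace r1 w) r1 &&
    Nat.beq (Nat.mod (expX w) 4) 0))

variable (D : GenData ([] : List (QGen × ℕ × QGen)) Qextra SQ)

theorem γ_eq_γQ (hgen : D.gen = genQ) (hsgn : D.sgn = sgnQ) : D.γ = γQ := by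
  funext l
  unfold GenData.γ γQ
  rw [hgen, hsgn]

theorem H_eq_closure : D.H = Subgroup.closure ({qx * qx, qy} : Set Qt) := by
  unfold GenData.H
  rw [MonoidHom.map_closure]
  congr 1
  rw [Set.image_pair, map_mul]
  rfl

/-- **Q4**: the word problem of `Qt` -/
theorem word_problem_Q (hgen : D.gen = genQ) (hsgn : D.sgn = sgnQ) (hg : D.c.g = 4) {r1 : ℕ}
    (hr1 : r1 < D.T.n) (hside : sideQ D.T r1 = true) {w : List ℕ} (hw : ∀ l ∈ w, l < 4)
    (h0 : D.T.trace 0 w = 0) (h1 : D.T.trace r1 w = r1) (he : expX w % 4 = 0) : evQ w = 1 := by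
  have hγ := γ_eq_γQ D hgen hsgn
  have hW : ∀ u : List ℕ, wordG D u = evQ u := by
    intro u
    unfold wordG evQ
    rw [hγ]
  have hlt : ∀ {u : List ℕ}, (∀ l ∈ u, l < 4) → ∀ x ∈ u, x < D.c.g := by
    intro u hu x hx
    rw [hg]
    exact hu x hx
  have hmem : evQ w ∈ Subgroup.closure ({qx * qx, qy} : Set Qt) := by
    rw [← H_eq_closure D, ← hW]
    exact wordG_mem_H D (hlt hw) h0
  obtain ⟨i, j, hi, hj, e⟩ := mem_closure_pair qxx_comm qxx_sq qrel1 hmem
  -- the second base point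
  have hfix : D.ρ (wordG D w) ⟨r1, hr1⟩ = ⟨r1, hr1⟩ := (ρ_word_fix_iff D (hlt hw) hr1).2 h1
  have e2 : wordG D w = wordG D (qword i j) := by
    rw [hW, hW, e, evQ_qword]
  rw [e2] at hfix
  have htr : D.T.trace r1 (qword i j) = r1 :=
    (ρ_word_fix_iff D (hlt (qword_lt i j)) hr1).1 hfix
  have hs := allBelow_spec _ _ (allBelow_spec _ _ hside i hi) j hj
  rw [htr, Nat.beq_refl] at hs
  simp only [Bool.not_true, Bool.or_false] at hs
  have hj0 : j = 0 := Nat.eq_of_beq_eq_true hs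
  subst hj0
  rw [pow_zero, mul_one] at e
  -- the abelianisation
  have h3 := abQ_evQ w hw
  have h4 : ((expX w : ℕ) : ZMod 4) = 0 := by
    rw [ZMod.natCast_eq_zero_iff]
    exact Nat.dvd_of_mod_eq_zero he
  rw [h4, e, map_pow, map_mul, abQ_qx] at h3
  interval_cases i
  · rw [e, pow_zero]
  · exfalso
    revert h3
    decide

/-- the form with a single check -/
theorem evQ_eq_one_of_chk (hgen : D.gen = genQ) (hsgn : D.sgn = sgnQ) (hg : D.c.g = 4) {r1 : ℕ}
    (hr1 : r1 < D.T.n) (hside : sideQ D.T r1 = true) {w : List ℕ}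
    (hc : wordChkQ D.T r1 w = true) : evQ w = 1 := by
  unfold wordChkQ at hc
  simp only [Bool.and_eq_true] at hc
  obtain ⟨hl, h0, h1, he⟩ := hc
  refine word_problem_Q D hgen hsgn hg hr1 hside ?_ (Nat.eq_of_beq_eq_true h0)
    (Nat.eq_of_beq_eq_true h1) (Nat.eq_of_beq_eq_true he)
  intro l hl'
  have := List.all_eq_true.1 hl l hl'
  rwa [Nat.blt_eq] at this

end Cfsg.Agent.Lib.Helper5.HNGlue

end
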