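import Cfsg.Agent.Lib.Helper5.HNGlue.PRel

/-! # The homomorphism from the presented group `Vt` on `a, b` to `Pt`, with `a ↦ v₁`, `b ↦ v₂` -/

set_option autoImplicit false

noncomputable section

namespace Cfsg.Agent.Lib.Helper5.HNGlue

open Cfsg.Agent.Lib.Helper6.TC Cfsg.Agent.Lib.Helper6.TCG Cfsg.Agent.Lib.Helper6.NatArr
  Cfsg.Agent.Lib.Helper6.SimpG Cfsg.Spor Cfsg.Agent.Lib.Lead.HNP

theorem evP_invW {u : List ℕ} (hu : ∀ l ∈ u, l < 4) : evP (invW u) = (evP u)⁻¹ := by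
  rw [← ιQ_evQ _ (invW_lt.2 hu), evQ_invW u hu, map_inv, ιQ_evQ u hu]

/-- the relators of `Vt` as words in the letters `0 = a, 1 = a⁻¹, 2 = b, 3 = b⁻¹` -/
def VrelW : List (List ℕ) :=
  [[0, 0, 0, 0, 0, 0, 0, 0], [0, 0, 0, 2, 0, 0, 2, 2, 1, 2], [0, 0, 3, 0, 2, 0, 2, 2, 2, 2],
    [0, 2, 1, 2, 1, 2, 2, 2, 0, 3]]

/-- the check of the relators of `Vt` on the table of `Qt` -/
def vrelChk (T : Tab) (r1 : ℕ) : Bool := VrelW.all fun r => wordChkQ T r1 (r.flatMap vexp)

/-- the images of the generators of `Vt` -/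
def θf : VGen → Pt
  | .a => evP v1W
  | .b => evP v2W

theorem evP_flatMap (e : ℕ → List ℕ) (l : List ℕ) :
    evP (l.flatMap e) = (l.map fun x => evP (e x)).prod := by
  unfold evP
  exact (prod_flatMap γP e l).symm

theorem evP_v1Wi : evP v1Wi = (evP v1W)⁻¹ := by
  have e : v1Wi = invW v1W := by decide
  rw [e]
  exact evP_invW (by unfold v1W; decide)

theorem evP_v2Wi : evP v2Wi = (evP v2W)⁻¹ := by
  have e : v2Wi = invW v2W := by decide
  rw [e]
  exact evP_invW (by unfold v2W; decide)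

variable (D : GenData ([] : List (QGen × ℕ × QGen)) Qextra SQ)

/-- a checked word in `x, y` is trivial in `Pt` -/
theorem evP_eq_one_of_chk (hgen : D.gen = genQ) (hsgn : D.sgn = sgnQ) (hg : D.c.g = 4) {r1 : ℕ}
    (hr1 : r1 < D.T.n) (hside : sideQ D.T r1 = true) {w : List ℕ}
    (hc : wordChkQ D.T r1 w = true) : evP w = 1 := by
  rw [← ιQ_evQ w (wordChkQ_lt hc), evQ_eq_one_of_chk D hgen hsgn hg hr1 hside hc, map_one]

/-- the relators of `Vt` hold for `v₁, v₂` in `Pt` -/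
theorem θ_rel (hgen : D.gen = genQ) (hsgn : D.sgn = sgnQ) (hg : D.c.g = 4) {r1 : ℕ}
    (hr1 : r1 < D.T.n) (hside : sideQ D.T r1 = true) (hV : vrelChk D.T r1 = true) :
    ∀ r ∈ Vextra, FreeGroup.lift θf r = 1 := by
  have key : ∀ rw ∈ VrelW, (rw.map fun x => evP (vexp x)).prod = 1 := by
    intro rw hrw
    rw [← evP_flatMap]
    exact evP_eq_one_of_chk D hgen hsgn hg hr1 hside (List.all_eq_true.1 hV rw hrw)
  intro r hr
  simp only [Vextra, List.mem_cons, List.not_mem_nil, or_false] at hr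
  rcases hr with rfl | rfl | rfl | rfl
  · have h := key [0, 0, 0, 0, 0, 0, 0, 0] (by simp [VrelW])
    simp only [List.map_cons, List.map_nil, List.prod_cons, List.prod_nil, vexp, evP_v1Wi,
      evP_v2Wi] at h
    simp only [map_mul, map_pow, map_inv, FreeGroup.lift_apply_of, θf]
    rw [← h]
    simp only [pow_succ, pow_zero, one_mul, mul_one, mul_assoc]
  · have h := key [0, 0, 0, 2, 0, 0, 2, 2, 1, 2] (by simp [VrelW])
    simp only [List.map_cons, List.map_nil, List.prod_cons, List.prod_nil, vexp, evP_v1Wi,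
      evP_v2Wi] at h
    simp only [map_mul, map_pow, map_inv, FreeGroup.lift_apply_of, θf]
    rw [← h]
    group
  · have h := key [0, 0, 3, 0, 2, 0, 2, 2, 2, 2] (by simp [VrelW])
    simp only [List.map_cons, List.map_nil, List.prod_cons, List.prod_nil, vexp, evP_v1Wi,
      evP_v2Wi] at h
    simp only [map_mul, map_pow, map_inv, FreeGroup.lift_apply_of, θf]
    rw [← h]
    group
  · have h := key [0, 2, 1, 2, 1, 2, 2, 2, 0, 3] (by simp [VrelW])
    simp only [List.map_cons, List.map_nil, List.prod_cons, List.prod_nil, vexp, evP_v1Wi,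
      evP_v2Wi] at h
    simp only [map_mul, map_pow, map_inv, FreeGroup.lift_apply_of, θf]
    rw [← h]
    group

/-- the homomorphism from `Vt` to `Pt` -/
def θV (h : ∀ r ∈ Vextra, FreeGroup.lift θf r = 1) : Vt →* Pt := plainLift θf h

theorem θV_γV (h : ∀ r ∈ Vextra, FreeGroup.lift θf r = 1) {l : ℕ} (hl : l < 4) :
    θV h (γV l) = ((vexp l).map γP).prod := by
  unfold θV γV
  rw [plainLift_mk]
  interval_cases l
  · show FreeGroup.lift θf (FreeGroup.of VGen.a) = evP v1W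
    rw [FreeGroup.lift_apply_of]
    rfl
  · show FreeGroup.lift θf (FreeGroup.of VGen.a)⁻¹ = evP v1Wi
    rw [map_inv, FreeGroup.lift_apply_of, evP_v1Wi]
    rfl
  · show FreeGroup.lift θf (FreeGroup.of VGen.b) = evP v2W
    rw [FreeGroup.lift_apply_of]
    rfl
  · show FreeGroup.lift θf (FreeGroup.of VGen.b)⁻¹ = evP v2Wi
    rw [map_inv, FreeGroup.lift_apply_of, evP_v2Wi]
    rfl

/-- **the homomorphism exists**, given the checks on the table of `Qt` -/
theorem exists_θ (hgen : D.gen = genQ) (hsgn : D.sgn = sgnQ) (hg : D.c.g = 4) {r1 : ℕ}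
    (hr1 : r1 < D.T.n) (hside : sideQ D.T r1 = true) (hV : vrelChk D.T r1 = true) :
    ∃ θ : Vt →* Pt, ∀ l, l < 4 → θ (γV l) = ((vexp l).map γP).prod :=
  ⟨θV (θ_rel D hgen hsgn hg hr1 hside hV), fun _ hl => θV_γV _ hl⟩

end Cfsg.Agent.Lib.Helper5.HNGlue

end
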