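import Cfsg.Agent.Lib.Helper5.HNGlue.QWord
import Cfsg.Agent.Lib.Lead.HNP.Exact35

/-! # Conjugation by `z` on the subgroup `⟨x, w⟩`, and the derived relators `z u z = u'` of the
group `Pt` on `x, y, z` -/

set_option autoImplicit false

noncomputable section

namespace Cfsg.Agent.Lib.Helper5.HNGlue

open Cfsg.Agent.Lib.Helper6.TC Cfsg.Agent.Lib.Helper6.TCG Cfsg.Agent.Lib.Helper6.NatArr
  Cfsg.Agent.Lib.Helper6.SimpG Cfsg.Spor Cfsg.Agent.Lib.Lead.HNP

/-! ### words in `x` and `w` -/

/-- the element of a letter: `0 = x, 1 = x⁻¹, 2 = w, 3 = w⁻¹` -/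
def letD {K : Type*} [Group K] (x w : K) : ℕ → K
  | 0 => x
  | 1 => x⁻¹
  | 2 => w
  | _ => w⁻¹

/-- the element of a word in `x` and `w` -/
def evD {K : Type*} [Group K] (x w : K) (d : List ℕ) : K := (d.map (letD x w)).prod

/-- the image of a letter under the conjugation by `z`: `x ↦ x⁻¹`, `w ↦ w x⁻²` -/
def conjL : ℕ → List ℕ
  | 0 => [1]
  | 1 => [0]
  | 2 => [2, 1, 1]
  | _ => [0, 0, 3]

/-- the image of a word under the conjugation by `z` -/
def conjD (d : List ℕ) : List ℕ := d.flatMap conjL

theorem evD_nil {K : Type*} [Group K] (x w : K) : evD x w [] = 1 := rfl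

theorem evD_cons {K : Type*} [Group K] (x w : K) (l : ℕ) (d : List ℕ) :
    evD x w (l :: d) = letD x w l * evD x w d := by
  unfold evD
  rw [List.map_cons, List.prod_cons]

theorem evD_append {K : Type*} [Group K] (x w : K) (d d' : List ℕ) :
    evD x w (d ++ d') = evD x w d * evD x w d' := by
  unfold evD
  rw [List.map_append, List.prod_append]

theorem map_evD {K L : Type*} [Group K] [Group L] (φ : K →* L) (x w : K) (d : List ℕ) :
    φ (evD x w d) = evD (φ x) (φ w) d := by
  unfold evD
  rw [map_list_prod, List.map_map]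
  congr 1
  apply List.map_congr_left
  intro l _
  show φ (letD x w l) = letD (φ x) (φ w) l
  unfold letD
  split <;> simp

/-- **Z1**: the conjugation by `z` on the words in `x` and `w` -/
theorem conj_evD {K : Type*} [Group K] {x w z : K} (hz : z * z = 1) (hx : z * x * z = x⁻¹)
    (hw : z * w * z = w * x⁻¹ * x⁻¹) : ∀ d : List ℕ, z * evD x w d * z = evD x w (conjD d)
  | [] => by
    rw [evD_nil, mul_one, hz]
    rfl
  | l :: d => by
    have hzi : z⁻¹ = z := inv_eq_of_mul_eq_one_left hz
    have hx' : z * x⁻¹ * z = x := by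
      have := congrArg (·⁻¹) hx
      simp only [mul_inv_rev, hzi, inv_inv] at this
      rw [← mul_assoc] at this
      exact this
    have hw' : z * w⁻¹ * z = x * x * w⁻¹ := by
      have := congrArg (·⁻¹) hw
      simp only [mul_inv_rev, hzi, inv_inv] at this
      rw [← mul_assoc] at this
      rw [this]
      group
    have hl : z * letD x w l * z = evD x w (conjL l) := by
      unfold letD conjL
      split
      · rw [hx]; simp [evD, letD]
      · rw [hx']; simp [evD, letD]
      · rw [hw]; simp [evD, letD, mul_assoc]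
      · rw [hw']; simp [evD, letD, mul_assoc]
    have ih := conj_evD hz hx hw d
    have e : conjD (l :: d) = conjL l ++ conjD d := by
      unfold conjD
      rw [List.flatMap_cons]
    rw [e, evD_append, ← hl, ← ih, evD_cons]
    calc z * (letD x w l * evD x w d) * z
        = z * letD x w l * (1 : K) * (evD x w d * z) := by group
      _ = z * letD x w l * (z * z) * (evD x w d * z) := by rw [hz]
      _ = z * letD x w l * z * (z * evD x w d * z) := by group

/-! ### the words of `w` -/

/-- the word of `w = y x y x y² x y⁻¹` in the letters `0 = x, 1 = x⁻¹, 2 = y, 3 = y⁻¹` -/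
def wW : List ℕ := [2, 0, 2, 0, 2, 2, 0, 3]

/-- the word of `w⁻¹` -/
def wWi : List ℕ := [2, 1, 3, 3, 1, 3, 1, 3]

/-- the word in `x, y` of a letter of a word in `x, w` -/
def expL : ℕ → List ℕ
  | 0 => [0]
  | 1 => [1]
  | 2 => wW
  | _ => wWi

/-- the word in `x, y` of a word in `x, w` -/
def expandD (d : List ℕ) : List ℕ := d.flatMap expL

/-- the element `w` of `Qt` -/
def qw : Qt := evQ wW

theorem evQ_wWi : evQ wWi = qw⁻¹ := by
  apply eq_inv_of_mul_eq_one_left
  unfold qw wW wWi evQ
  simp only [List.map_cons, List.map_nil, List.prod_cons, List.prod_nil, γQ_zero, γQ_one, γQ_two,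
    γQ_three]
  group

theorem evQ_expandD : ∀ d : List ℕ, evQ (expandD d) = evD qx qw d
  | [] => rfl
  | l :: d => by
    have e : expandD (l :: d) = expL l ++ expandD d := by
      unfold expandD
      rw [List.flatMap_cons]
    rw [e, evQ_append, evQ_expandD d, evD_cons]
    congr 1
    unfold expL letD
    split
    · simp [evQ, γQ_zero]
    · simp [evQ, γQ_one]
    · rfl
    · exact evQ_wWi

/-! ### inverse words -/

theorem γQ_xor {l : ℕ} (hl : l < 4) : γQ (Nat.xor l 1) = (γQ l)⁻¹ := by
  interval_cases l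
  · show γQ 1 = (γQ 0)⁻¹
    rw [γQ_one, γQ_zero]
  · show γQ 0 = (γQ 1)⁻¹
    rw [γQ_one, γQ_zero, inv_inv]
  · show γQ 3 = (γQ 2)⁻¹
    rw [γQ_three, γQ_two]
  · show γQ 2 = (γQ 3)⁻¹
    rw [γQ_three, γQ_two, inv_inv]

theorem evQ_invW : ∀ (u : List ℕ), (∀ l ∈ u, l < 4) → evQ (invW u) = (evQ u)⁻¹
  | [], _ => by simp [invW, evQ]
  | l :: u, hu => by
    have ih := evQ_invW u (fun k hk => hu k (List.mem_cons_of_mem _ hk))
    have e : invW (l :: u) = invW u ++ [Nat.xor l 1] := by
      unfold invW
      rw [List.reverse_cons, List.map_append]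
      rfl
    have h1 : evQ [Nat.xor l 1] = (γQ l)⁻¹ := by
      rw [evQ_cons, evQ_nil, mul_one]
      exact γQ_xor (hu l (List.mem_cons_self ..))
    rw [e, evQ_append, ih, h1, evQ_cons l u, mul_inv_rev]

theorem xor_one_lt_four {l : ℕ} : Nat.xor l 1 < 4 ↔ l < 4 := by
  have key : ∀ k : ℕ, k < 4 → Nat.xor k 1 < 4 := by
    intro k hk
    exact Nat.xor_lt_two_pow (n := 2) hk (by norm_num)
  constructor
  · intro h
    have := key _ h
    have e : Nat.xor (Nat.xor l 1) 1 = l := by
      show (l ^^^ 1) ^^^ 1 = l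
      rw [Nat.xor_assoc, Nat.xor_self, Nat.xor_zero]
    rwa [e] at this
  · exact key l

theorem invW_lt {u : List ℕ} : (∀ l ∈ invW u, l < 4) ↔ ∀ l ∈ u, l < 4 := by
  unfold invW
  simp only [List.mem_map, List.mem_reverse, forall_exists_index, and_imp,
    forall_apply_eq_imp_iff₂]
  constructor
  · intro h l hl
    exact xor_one_lt_four.1 (h l hl)
  · intro h l hl
    exact xor_one_lt_four.2 (h l hl)

end Cfsg.Agent.Lib.Helper5.HNGlue

end
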